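import Groth.Agent.HP.DevStep
import Groth.Agent.S1266

/-!
Maps from free modules over algebras with geometrically integral fibres which are bijective at the
generic point of one fibre.
-/

set_option autoImplicit false

universe u

open TensorProduct AlgebraicGeometry CategoryTheory Limits

attribute [local instance] Algebra.TensorProduct.rightAlgebra

namespace Groth.Agent.HP.Glob

/-- Every base change to a field is a domain. -/
def GI (A B : Type u) [CommRing A] [CommRing B] [Algebra A B] : Prop :=
  ∀ (K : Type u) [Field K] [Algebra A K], IsDomain (K ⊗[A] B)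

variable {A B : Type u} [CommRing A] [CommRing B] [Algebra A B]

theorem GI.geomIntegral (h : GI A B) : FlatCA.GeomIntegralFibres A B := by
  haveI : ObjectProperty.IsClosedUnderIsomorphisms (IsIntegral : Scheme.{u} → Prop) :=
    ⟨fun e h => haveI := h; IsIntegral.of_isIso e.hom⟩
  refine ⟨geometrically_iff_of_commRing_of_isClosedUnderIsomorphisms.mpr fun K _ _ => ?_⟩
  haveI := h K
  haveI : IsDomain (B ⊗[A] K) := (Algebra.TensorProduct.comm A B K).toRingEquiv.toMulEquiv.isDomain _
  haveI : IsIntegral (Spec (CommRingCat.of (B ⊗[A] K))) :=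
    (affine_isIntegral_iff (CommRingCat.of (B ⊗[A] K))).mpr inferInstance
  exact IsIntegral.of_isIso (pullbackSpecIso A B K).inv

theorem GI.of_geomIntegral (h : FlatCA.GeomIntegralFibres A B) : GI A B :=
  fun K _ _ => S1223.isDomain_tensor h K

theorem GI.of_smooth [Algebra.Smooth A B] (h : FlatCA.GeomIrredFibres A B) : GI A B :=
  GI.of_geomIntegral (DevStep.geomIntegral h)

theorem GI.projective [Algebra.FinitePresentation A B] [Module.Flat A B] (h : GI A B) : Module.Projective A B := by
  refine (S1219.result (A := A) (B := B) B).mpr fun p _ => ?_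
  have huniv := S1223.result h.geomIntegral p
  intro A' B' N' _ _ _ _ _ _ _ _ _ _ _ _ _ _ f t' t _ _ P _ _
  exact huniv A' B' N' f t' t P

/-- An element nonzero on the fibres over `D(f)` is a nonzerodivisor after tensoring, up to powers of `f`. -/
theorem GI.eq_zero_of_pow_smul [Algebra.FinitePresentation A B] [Module.Flat A B] (h : GI A B) (f : A) (g : B)
    (hg : ∀ (t : Ideal A) [t.IsPrime], f ∉ t → (1 : t.ResidueField) ⊗ₜ[A] g ≠ 0)
    (X : Type u) [AddCommGroup X] [Module A X] (x : B ⊗[A] X) (k : ℕ) (hx : g ^ k • x = 0) :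
    ∃ m : ℕ, f ^ m • x = 0 := by
  let T := Submonoid.powers (algebraMap A B f)
  let Bf := Localization T
  haveI : Module.Flat B Bf := IsLocalization.flat Bf T
  haveI : Module.Flat A Bf := Module.Flat.trans A B Bf
  let u : Bf →ₗ[A] Bf := LinearMap.mulLeft A (algebraMap B Bf g)
  have huniv : FlatCA.UnivInj A u := S1266.result_aux T Bf B (Algebra.linearMap B Bf) Bf u fun t _ => by
    let κ := t.ResidueField
    haveI := h κ
    let ρ : κ ⊗[A] B →ₐ[A] κ ⊗[A] Bf := Algebra.TensorProduct.map (AlgHom.id A κ) (IsScalarTower.toAlgHom A B Bf)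
    rw [injective_iff_map_eq_zero]
    intro z hz
    have hu : ∀ z, u.lTensor κ z = ((1 : κ) ⊗ₜ[A] algebraMap B Bf g) * z := fun z => by
      induction z with
      | zero => simp
      | tmul a b => simp [u, Algebra.TensorProduct.tmul_mul_tmul]
      | add a b ha hb => rw [map_add, ha, hb, mul_add]
    rw [hu] at hz
    by_cases hft : f ∈ t
    · have hunit : IsUnit ((1 : κ) ⊗ₜ[A] algebraMap B Bf (algebraMap A B f)) :=
        (IsLocalization.map_units Bf (⟨_, Submonoid.mem_powers _⟩ : T)).map
          (Algebra.TensorProduct.includeRight : Bf →ₐ[A] κ ⊗[A] Bf)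
      have h0 : (1 : κ) ⊗ₜ[A] algebraMap B Bf (algebraMap A B f) = 0 := by
        rw [← IsScalarTower.algebraMap_apply, Algebra.algebraMap_eq_smul_one, ← TensorProduct.smul_tmul,
          ← Algebra.algebraMap_eq_smul_one, Ideal.algebraMap_residueField_eq_zero.mpr hft, TensorProduct.zero_tmul]
      haveI : Subsingleton (κ ⊗[A] Bf) := subsingleton_of_zero_eq_one (isUnit_zero_iff.mp (h0 ▸ hunit))
      exact Subsingleton.elim z 0
    let ι : B →+* κ ⊗[A] B := (Algebra.TensorProduct.includeRight : B →ₐ[A] κ ⊗[A] B).toRingHom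
    have hιu : ∀ y : T, IsUnit (ι y) := by
      rintro ⟨_, m, rfl⟩
      show IsUnit ((1 : κ) ⊗ₜ[A] ((algebraMap A B f) ^ m))
      rw [← map_pow, Algebra.algebraMap_eq_smul_one, ← TensorProduct.smul_tmul, ← Algebra.algebraMap_eq_smul_one]
      have : IsUnit (algebraMap A κ (f ^ m)) := isUnit_iff_ne_zero.mpr (by
        rw [map_pow]; exact pow_ne_zero m fun h => hft (Ideal.algebraMap_residueField_eq_zero.mp h))
      exact this.map (Algebra.TensorProduct.includeLeftRingHom : κ →+* κ ⊗[A] B)
    let rA : Bf →ₐ[A] κ ⊗[A] B :=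
      { toRingHom := IsLocalization.lift hιu
        commutes' := fun a => by
          show IsLocalization.lift hιu (algebraMap A Bf a) = _
          rw [IsScalarTower.algebraMap_apply A B Bf, IsLocalization.lift_eq]
          exact (Algebra.TensorProduct.includeRight : B →ₐ[A] κ ⊗[A] B).commutes a }
    let r : κ ⊗[A] Bf →ₐ[A] κ ⊗[A] B := Algebra.TensorProduct.lift
      (IsScalarTower.toAlgHom A κ (κ ⊗[A] B)) rA fun _ _ => Commute.all _ _
    have hrρ : ∀ y, r (ρ y) = y := fun y => by
      induction y with
      | zero => simp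
      | tmul a b =>
        simp only [r, ρ, Algebra.TensorProduct.map_tmul, Algebra.TensorProduct.lift_tmul, AlgHom.id_apply]
        show (a ⊗ₜ[A] (1 : B)) * IsLocalization.lift hιu (algebraMap B Bf b) = a ⊗ₜ[A] b
        rw [IsLocalization.lift_eq]
        show (a ⊗ₜ[A] (1 : B)) * ((1 : κ) ⊗ₜ[A] b) = a ⊗ₜ[A] b
        rw [Algebra.TensorProduct.tmul_mul_tmul, mul_one, one_mul]
      | add a b ha hb => rw [map_add, map_add, ha, hb]
    have hρr : ∀ z, ρ (r z) = z := by
      have : ρ.comp r = AlgHom.id A _ := by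
        refine Algebra.TensorProduct.ext (AlgHom.ext fun a => ?_) ?_
        · simp [ρ, r]
        · refine IsLocalization.algHom_ext T (AlgHom.ext fun b => ?_)
          show ρ (r ((1 : κ) ⊗ₜ[A] algebraMap B Bf b)) = (1 : κ) ⊗ₜ[A] algebraMap B Bf b
          rw [show (1 : κ) ⊗ₜ[A] algebraMap B Bf b = ρ ((1 : κ) ⊗ₜ[A] b) by simp [ρ], hrρ]
      exact fun z => AlgHom.congr_fun this z
    have h1 : ((1 : κ) ⊗ₜ[A] g) * r z = 0 := by
      have h2 := congrArg r hz
      rwa [map_mul, map_zero, show (1 : κ) ⊗ₜ[A] algebraMap B Bf g = ρ ((1 : κ) ⊗ₜ[A] g) by simp [ρ], hrρ] at h2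
    rw [← hρr z, (mul_eq_zero.mp h1).resolve_left (hg t hft), map_zero]
  let η := AlgebraTensorModule.rTensor A X (Algebra.linearMap B Bf)
  have h2 : ∀ w : Bf ⊗[A] X, u.rTensor X w = g • w := fun w => by
    induction w with
    | zero => simp
    | tmul a b => simp [u, TensorProduct.smul_tmul', Algebra.smul_def]
    | add a b ha hb => rw [map_add, ha, hb, smul_add]
  have h3 := (LinearMap.lTensor_inj_iff_rTensor_inj (f := u) X).mp (huniv X)
  have h4 : ∀ (j : ℕ) (w : Bf ⊗[A] X), g ^ j • w = 0 → w = 0 := by
    intro j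
    induction j with
    | zero => intro w hw; rwa [pow_zero, one_smul] at hw
    | succ j ih =>
      intro w hw
      refine ih w (h3 ?_)
      rw [h2, map_zero, ← mul_smul, ← pow_succ', hw]
  obtain ⟨⟨_, ⟨m, rfl⟩⟩, hm⟩ := (rTensor_mk_eq_zero_iff T (Algebra.linearMap B Bf) X x).mp
    (show η x = 0 from h4 k _ (by rw [← map_smul, hx, map_zero]))
  refine ⟨m, ?_⟩
  rwa [← IsScalarTower.algebraMap_smul B (f ^ m) x, map_pow]

/-- A map from a free module bijective after inverting an element nonzero on the fibres over `D(f)` is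
universally injective up to powers of `f`. -/
theorem univInj_of_bijective [Algebra.FinitePresentation A B] [Module.Flat A B] (h : GI A B) (f : A) (g : B)
    (hg : ∀ (t : Ideal A) [t.IsPrime], f ∉ t → (1 : t.ResidueField) ⊗ₜ[A] g ≠ 0)
    {M : Type u} [AddCommGroup M] [Module B M] [Module A M] [IsScalarTower A B M] {r : ℕ} (α : (Fin r → B) →ₗ[B] M)
    (hα : Function.Bijective (LocalizedModule.map (Submonoid.powers g) α)) (X : Type u) [AddCommGroup X] [Module A X]
    (x : (Fin r → B) ⊗[A] X) (hx : (α.restrictScalars A).rTensor X x = 0) : ∃ m : ℕ, f ^ m • x = 0 := by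
  classical
  let η := LocalizedModule.mkLinearMap (Submonoid.powers g) (Fin r → B)
  let η' := LocalizedModule.mkLinearMap (Submonoid.powers g) M
  let e := (LinearEquiv.ofBijective _ hα).restrictScalars B
  have hcomm : (e.toLinearMap).comp η = η'.comp α := LinearMap.ext fun v => LocalizedModule.map_mk _ _ _ _
  have h1 : (η.restrictScalars A).rTensor X x = 0 := by
    refine (LinearEquiv.rTensor X (e.restrictScalars A)).injective ?_
    rw [map_zero]
    show ((e.restrictScalars A).toLinearMap).rTensor X _ = 0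
    rw [← LinearMap.rTensor_comp_apply,
      show (e.restrictScalars A).toLinearMap ∘ₗ η.restrictScalars A = η'.restrictScalars A ∘ₗ α.restrictScalars A from
        LinearMap.ext fun v => LinearMap.congr_fun hcomm v,
      LinearMap.rTensor_comp_apply, hx, map_zero]
  obtain ⟨⟨_, ⟨k, rfl⟩⟩, hk⟩ := (rTensor_mk_eq_zero_iff (Submonoid.powers g) η X x).mp h1
  choose m hm using fun i => h.eq_zero_of_pow_smul f g hg X
    (AlgebraTensorModule.rTensor A X (LinearMap.proj (R := B) (φ := fun _ : Fin r => B) i) x) k
    (by rw [← map_smul, hk, map_zero])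
  refine ⟨∑ i, m i, ?_⟩
  conv_lhs => rw [sum_single_proj x, Finset.smul_sum]
  refine Finset.sum_eq_zero fun i _ => ?_
  rw [← map_smul, ← Finset.sum_erase_add _ _ (Finset.mem_univ i), pow_add, mul_smul]
  refine (congrArg _ ?_).trans (map_zero _)
  rw [show f ^ m i • (LinearMap.proj (R := A) (φ := fun _ : Fin r => B) i).rTensor X x = 0 from hm i, smul_zero]

/-- The image of a basic open of a flat finitely presented algebra contains a neighbourhood. -/
theorem exists_fibre_ne_zero [Algebra.FinitePresentation A B] [Module.Flat A B] (p : Ideal A) [p.IsPrime]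
    (η : Ideal B) [η.IsPrime] [η.LiesOver p] (g : B) (hg : g ∉ η) :
    ∃ f ∉ p, ∀ (t : Ideal A) [t.IsPrime], f ∉ t → (1 : t.ResidueField) ⊗ₜ[A] g ≠ 0 := by
  let U := PrimeSpectrum.comap (algebraMap A B) '' (PrimeSpectrum.basicOpen g : Set (PrimeSpectrum B))
  have hU : IsOpen U := PrimeSpectrum.isOpenMap_comap_of_hasGoingDown_of_finitePresentation _ (PrimeSpectrum.basicOpen g).2
  have hpU : (⟨p, inferInstance⟩ : PrimeSpectrum A) ∈ U :=
    ⟨⟨η, inferInstance⟩, hg, PrimeSpectrum.ext (η.over_def p).symm⟩
  obtain ⟨_, ⟨f, rfl⟩, hf, hsub⟩ := PrimeSpectrum.isTopologicalBasis_basic_opens.exists_subset_of_mem_open hpU hU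
  refine ⟨f, hf, fun t _ ht h0 => ?_⟩
  obtain ⟨Q, hQ, hQt⟩ := hsub (show (⟨t, inferInstance⟩ : PrimeSpectrum A) ∈ _ from ht)
  haveI : Q.asIdeal.LiesOver t := ⟨(congrArg PrimeSpectrum.asIdeal hQt).symm⟩
  let θ : t.ResidueField ⊗[A] B →ₐ[A] Q.asIdeal.ResidueField := Algebra.TensorProduct.lift
    (Ideal.ResidueField.mapₐ t Q.asIdeal (Algebra.ofId A B) (Q.asIdeal.over_def t))
    (IsScalarTower.toAlgHom A B Q.asIdeal.ResidueField) fun _ _ => Commute.all _ _
  have h1 := congrArg θ h0
  rw [Algebra.TensorProduct.lift_tmul, map_one, one_mul, map_zero] at h1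
  exact hQ (Ideal.algebraMap_residueField_eq_zero.mp h1)

/-- A map from a free module bijective at the generic point of one fibre of a flat module is bijective
on a neighbourhood of that point. -/
theorem exists_bijective [Module.Flat A B] (p : Ideal A) [p.IsPrime] (η : Ideal B) [η.IsPrime] [η.LiesOver p]
    (hη : ∀ b ∈ η, ∃ c ∉ η, c * b ∈ p.map (algebraMap A B))
    (M : Type u) [AddCommGroup M] [Module B M] [Module A M] [IsScalarTower A B M] [Module.FinitePresentation B M]
    (hflat : FlatCA.FlatAt A η M) {r : ℕ} (α : (Fin r → B) →ₗ[B] M)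
    (hα : Function.Bijective (α.baseChange η.ResidueField)) :
    ∃ g ∉ η, Function.Bijective (LocalizedModule.map (Submonoid.powers g) α) := by
  refine Module.FinitePresentation.exists_notMem_bijective α η
    (LocalizedModule.mkLinearMap η.primeCompl (Fin r → B)) (LocalizedModule.mkLinearMap η.primeCompl M) ?_
  let L := Localization.AtPrime η
  let F := Fin r → B
  let Fη := LocalizedModule η.primeCompl F
  let Mη := LocalizedModule η.primeCompl M
  let αη : Fη →ₗ[L] Mη := LocalizedModule.map η.primeCompl α
  suffices h : Function.Bijective αη by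
    rw [show IsLocalizedModule.map η.primeCompl (LocalizedModule.mkLinearMap η.primeCompl (Fin r → B))
        (LocalizedModule.mkLinearMap η.primeCompl M) α = αη.restrictScalars B from
      IsLocalizedModule.linearMap_ext η.primeCompl (LocalizedModule.mkLinearMap η.primeCompl (Fin r → B))
        (LocalizedModule.mkLinearMap η.primeCompl M) (LinearMap.ext fun v => by
          rw [LinearMap.comp_apply, LinearMap.comp_apply, IsLocalizedModule.map_apply]
          exact (LocalizedModule.map_mk _ _ _ _).symm)]
    exact h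
  haveI : Module.FinitePresentation L Mη := inferInstance
  haveI : Module.Finite L Fη := Module.Finite.of_isLocalizedModule η.primeCompl (LocalizedModule.mkLinearMap η.primeCompl F)
  have hmax : IsLocalRing.maximalIdeal L = p.map (algebraMap A L) := by
    refine le_antisymm ?_ ?_
    · rw [← IsLocalization.AtPrime.map_eq_maximalIdeal η L, Ideal.map_le_iff_le_comap]
      intro b hb
      obtain ⟨c, hc, hcb⟩ := hη b hb
      have h1 := Ideal.mem_map_of_mem (algebraMap B L) hcb
      rw [Ideal.map_map, ← IsScalarTower.algebraMap_eq, map_mul] at h1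
      exact (Ideal.unit_mul_mem_iff_mem _ (IsLocalization.map_units L (⟨c, hc⟩ : η.primeCompl))).mp h1
    · rw [Ideal.map_le_iff_le_comap]
      intro a ha
      rw [Ideal.mem_comap, IsScalarTower.algebraMap_apply A B L, ← IsLocalization.AtPrime.map_eq_maximalIdeal η L]
      exact Ideal.mem_map_of_mem _ ((η.over_def p).le ha)
  -- surjectivity
  have hsurj : Function.Surjective αη := by
    rw [← LinearMap.range_eq_top]
    refine le_antisymm le_top ?_
    refine Submodule.le_of_le_smul_of_le_jacobson_bot (I := IsLocalRing.maximalIdeal L) Module.Finite.fg_top ?_ ?_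
    · exact IsLocalRing.maximalIdeal_le_jacobson _
    intro y _
    obtain ⟨⟨v, s⟩, hs⟩ := IsLocalizedModule.surj η.primeCompl (LocalizedModule.mkLinearMap η.primeCompl M) y
    obtain ⟨w, hw⟩ := hα.2 ((1 : η.ResidueField) ⊗ₜ v)
    let Q := Mη ⧸ (LinearMap.range αη ⊔ IsLocalRing.maximalIdeal L • (⊤ : Submodule L Mη))
    let π : Mη →ₗ[L] Q := Submodule.mkQ _
    have hπm : ∀ (l : L) (q : Q), l ∈ IsLocalRing.maximalIdeal L → l • q = 0 := fun l q hl => by
      obtain ⟨q, rfl⟩ := Submodule.mkQ_surjective _ q
      rw [← map_smul, Submodule.mkQ_apply, Submodule.Quotient.mk_eq_zero]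
      exact Submodule.mem_sup_right (Submodule.smul_mem_smul hl Submodule.mem_top)
    have hker : π ((LocalizedModule.mkLinearMap η.primeCompl M) v) = 0 := by
      have hres : ∀ l : L, l ∈ IsLocalRing.maximalIdeal L ↔ algebraMap L η.ResidueField l = 0 := fun l => by
        rw [show algebraMap L η.ResidueField l = IsLocalRing.residue L l from rfl, IsLocalRing.residue_eq_zero_iff]
      let sect : η.ResidueField → L := Function.surjInv IsLocalRing.residue_surjective
      have hsect : ∀ k, algebraMap L η.ResidueField (sect k) = k := Function.surjInv_eq IsLocalRing.residue_surjective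
      have hwell : ∀ (l l' : L) (q : Q), algebraMap L η.ResidueField l = algebraMap L η.ResidueField l' → l • q = l' • q :=
        fun l l' q hll => by
          rw [← sub_eq_zero, ← sub_smul]
          exact hπm _ q ((hres _).mpr (by rw [map_sub, hll, sub_self]))
      let Φ : η.ResidueField ⊗[B] M →ₗ[B] Q := TensorProduct.lift (LinearMap.mk₂ B
        (fun k m => sect k • π (LocalizedModule.mkLinearMap η.primeCompl M m))
        (fun k k' m => by rw [← add_smul]; exact hwell _ _ _ (by rw [map_add, hsect, hsect, hsect]))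
        (fun b k m => by
          rw [← IsScalarTower.algebraMap_smul L b (sect k • π (LocalizedModule.mkLinearMap η.primeCompl M m)), ← mul_smul]
          exact hwell _ _ _ (by rw [map_mul, hsect, hsect, ← IsScalarTower.algebraMap_apply, Algebra.smul_def]))
        (fun k m m' => by rw [map_add, map_add, smul_add])
        (fun b k m => by
          rw [map_smul, LinearMap.map_smul_of_tower, smul_comm]))
      have hΦ : ∀ m, Φ ((1 : η.ResidueField) ⊗ₜ m) = π (LocalizedModule.mkLinearMap η.primeCompl M m) := fun m => by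
        show sect 1 • π (LocalizedModule.mkLinearMap η.primeCompl M m) = _
        rw [hwell (sect 1) 1 _ (by rw [hsect, map_one]), one_smul]
      have h0 : ∀ z : η.ResidueField ⊗[B] F, Φ (α.baseChange η.ResidueField z) = 0 := fun z => by
        induction z with
        | zero => simp
        | tmul k f =>
          show sect k • π (LocalizedModule.mkLinearMap η.primeCompl M (α f)) = 0
          rw [show π (LocalizedModule.mkLinearMap η.primeCompl M (α f)) = 0 from (Submodule.Quotient.mk_eq_zero _).mpr
            (Submodule.mem_sup_left ⟨LocalizedModule.mkLinearMap η.primeCompl F f, LocalizedModule.map_mk _ _ _ _⟩), smul_zero]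
        | add a b ha hb => rw [map_add, map_add, ha, hb, add_zero]
      rw [← hΦ, ← hw, h0]
    have h2 : LocalizedModule.mkLinearMap η.primeCompl M v ∈
        LinearMap.range αη ⊔ IsLocalRing.maximalIdeal L • (⊤ : Submodule L Mη) := (Submodule.Quotient.mk_eq_zero _).mp hker
    rw [← hs, Submonoid.smul_def, ← IsScalarTower.algebraMap_smul L (s : B) y] at h2
    obtain ⟨c, hc⟩ := (IsLocalization.map_units L s).exists_left_inv
    have h3 := Submodule.smul_mem _ c h2
    rwa [← mul_smul, hc, one_smul] at h3
  refine ⟨?_, hsurj⟩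
  -- injectivity
  haveI : IsScalarTower A L Mη := IsScalarTower.of_algebraMap_smul fun a x => by
    rw [IsScalarTower.algebraMap_apply A B L, IsScalarTower.algebraMap_smul, IsScalarTower.algebraMap_smul]
  haveI : IsScalarTower A L Fη := IsScalarTower.of_algebraMap_smul fun a x => by
    rw [IsScalarTower.algebraMap_apply A B L, IsScalarTower.algebraMap_smul, IsScalarTower.algebraMap_smul]
  haveI : Module.Flat A Mη := hflat
  rw [← LinearMap.ker_eq_bot]
  let K := LinearMap.ker αη
  refine Submodule.eq_bot_of_le_smul_of_le_jacobson_bot (IsLocalRing.maximalIdeal L) K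
    (Module.FinitePresentation.fg_ker αη hsurj) ?_ (IsLocalRing.maximalIdeal_le_jacobson _)
  intro x hx
  have hz : ((1 : A ⧸ p) ⊗ₜ[A] x : (A ⧸ p) ⊗[A] Fη) = 0 := by
    -- the fibre map is injective
    let η0 := LocalizedModule.mkLinearMap η.primeCompl F
    obtain ⟨⟨f, s⟩, hs⟩ := IsLocalizedModule.surj η.primeCompl η0 x
    have hf0 : αη (η0 f) = 0 := by
      rw [← hs, Submonoid.smul_def, LinearMap.map_smul_of_tower, LinearMap.mem_ker.mp hx, smul_zero]
    have hαf : (1 : η.ResidueField) ⊗ₜ[B] α f = 0 := by
      obtain ⟨t, ht⟩ := (IsLocalizedModule.eq_zero_iff η.primeCompl (LocalizedModule.mkLinearMap η.primeCompl M)).mp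
        (show LocalizedModule.mkLinearMap η.primeCompl M (α f) = 0 by
          rw [← hf0]; exact (LocalizedModule.map_mk _ _ _ _).symm)
      have hu : IsUnit (algebraMap B η.ResidueField t) :=
        isUnit_iff_ne_zero.mpr fun h => t.2 (Ideal.algebraMap_residueField_eq_zero.mp h)
      have h4 : algebraMap B η.ResidueField t • ((1 : η.ResidueField) ⊗ₜ[B] α f) = 0 := by
        rw [IsScalarTower.algebraMap_smul, ← TensorProduct.tmul_smul, ← Submonoid.smul_def, ht, TensorProduct.tmul_zero]
      exact hu.smul_eq_zero.mp h4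
    have hf1 : (1 : η.ResidueField) ⊗ₜ[B] f = 0 := hα.1 (by rw [map_zero, LinearMap.baseChange_tmul, hαf])
    have hfi : ∀ i, f i ∈ η := fun i => by
      have := congrArg ((TensorProduct.rid B η.ResidueField).toLinearMap ∘ₗ
        (LinearMap.proj (R := B) (φ := fun _ : Fin r => B) i).lTensor η.ResidueField) hf1
      simp only [map_zero, LinearMap.comp_apply, LinearMap.lTensor_tmul, LinearMap.coe_proj, Function.eval,
        LinearEquiv.coe_coe, TensorProduct.rid_tmul] at this
      rw [Algebra.smul_def, mul_one] at this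
      exact Ideal.algebraMap_residueField_eq_zero.mp this
    have hmem : η0 f ∈ IsLocalRing.maximalIdeal L • (⊤ : Submodule L Fη) := by
      rw [pi_eq_sum_univ' f, map_sum]
      refine Submodule.sum_mem _ fun i _ => ?_
      rw [map_smul, ← IsScalarTower.algebraMap_smul L (f i) (η0 _)]
      refine Submodule.smul_mem_smul ?_ Submodule.mem_top
      rw [← IsLocalization.AtPrime.map_eq_maximalIdeal η L]
      exact Ideal.mem_map_of_mem _ (hfi i)
    obtain ⟨c, hc⟩ := (IsLocalization.map_units L s).exists_left_inv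
    have hx2 : x ∈ IsLocalRing.maximalIdeal L • (⊤ : Submodule L Fη) := by
      rw [← hs, Submonoid.smul_def, ← IsScalarTower.algebraMap_smul L (s : B) x] at hmem
      have h3 := Submodule.smul_mem _ c hmem
      rwa [← mul_smul, hc, one_smul] at h3
    rw [hmax, ← Submodule.restrictScalars_mem A, Submodule.restrictScalars_map_smul_eq, Submodule.restrictScalars_top] at hx2
    exact ((TensorProduct.quotTensorEquivQuotSMul Fη p).map_eq_zero_iff).mp (by
      show TensorProduct.quotTensorEquivQuotSMul Fη p ((Ideal.Quotient.mk p 1) ⊗ₜ[A] x) = 0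
      rw [TensorProduct.quotTensorEquivQuotSMul_mk_tmul, Submodule.Quotient.mk_eq_zero, one_smul]
      exact hx2)
  -- transfer to the kernel by flatness
  let ι : K →ₗ[A] Fη := K.subtype.restrictScalars A
  have hι : Function.Injective ι := Subtype.val_injective
  have hexact : Function.Exact ι (αη.restrictScalars A) := fun z =>
    ⟨fun h => ⟨⟨z, h⟩, rfl⟩, by rintro ⟨w, rfl⟩; exact w.2⟩
  have hinj : Function.Injective (ι.lTensor (A ⧸ p)) := by
    refine @LinearMap.lTensor_injective_of_exact_of_flat A _ K inferInstance _ Fη Mη _ _ _ _ _ (αη.restrictScalars A) hsurj ι hι hexact (A ⧸ p) _ _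
  have h5 : ((1 : A ⧸ p) ⊗ₜ[A] (⟨x, hx⟩ : K) : (A ⧸ p) ⊗[A] K) = 0 := hinj (by
    rw [LinearMap.lTensor_tmul, map_zero]; exact hz)
  have h6 := congrArg (TensorProduct.quotTensorEquivQuotSMul K p)
    (show (Ideal.Quotient.mk p 1) ⊗ₜ[A] (⟨x, hx⟩ : K) = 0 from h5)
  rw [TensorProduct.quotTensorEquivQuotSMul_mk_tmul, map_zero, Submodule.Quotient.mk_eq_zero, one_smul] at h6
  rw [hmax]
  have h7 : (p • (⊤ : Submodule A K)).map (K.subtype.restrictScalars A) ≤
      ((p.map (algebraMap A L)) • K).restrictScalars A := by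
    rw [Submodule.map_smul'', Submodule.smul_le]
    intro a ha y hy
    obtain ⟨z, -, rfl⟩ := Submodule.mem_map.mp hy
    rw [Submodule.restrictScalars_mem, ← IsScalarTower.algebraMap_smul L a]
    exact Submodule.smul_mem_smul (Ideal.mem_map_of_mem _ ha) z.2
  exact h7 (Submodule.mem_map_of_mem h6)

end Groth.Agent.HP.Glob
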