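import Groth.Agent.HP.Glob.Free
import Groth.Agent.IdealSh.RelFlat
import Groth.Agent.RGFlat.Spread

/-!
Maps from free modules: bases at the generic point of a fibre and universal injectivity of localizations.
-/

set_option autoImplicit false

universe u

open TensorProduct

namespace Groth.Agent.HP.Glob

variable {A B : Type u} [CommRing A] [CommRing B] [Algebra A B]
  {N : Type u} [AddCommGroup N] [Module B N] [Module A N] [IsScalarTower A B N]

omit [Module A N] [IsScalarTower A B N] in
theorem exists_basis_map (η : Ideal B) [η.IsPrime] [Module.Finite B N] :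
    ∃ (r : ℕ) (α : (Fin r → B) →ₗ[B] N), Function.Bijective (α.baseChange η.ResidueField) := by
  classical
  let κ := η.ResidueField
  let V := κ ⊗[B] N
  let s : Set V := Set.range fun n : N => (1 : κ) ⊗ₜ[B] n
  have hs : Submodule.span κ s = ⊤ := by
    rw [eq_top_iff]
    intro (x : κ ⊗[B] N) hx
    clear hx
    induction x with
    | zero => exact zero_mem _
    | tmul a n =>
      rw [show a ⊗ₜ[B] n = a • ((1 : κ) ⊗ₜ[B] n) by rw [TensorProduct.smul_tmul', smul_eq_mul, mul_one]]
      exact Submodule.smul_mem _ a (Submodule.subset_span ⟨n, rfl⟩)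
    | add a b ha hb => exact add_mem ha hb
  obtain ⟨t, hts, htspan, hli⟩ := exists_linearIndependent κ s
  haveI : Fintype t := (Set.Finite.fintype hli.setFinite)
  let e := (Fintype.equivFin t).symm
  have hm : ∀ i, ∃ n : N, (1 : κ) ⊗ₜ[B] n = (e i : V) := fun i => hts (e i).2
  choose m hm using hm
  let α : (Fin (Fintype.card t) → B) →ₗ[B] N := Fintype.linearCombination B m
  let bV : Module.Basis (Fin (Fintype.card t)) κ V := (Module.Basis.mk hli (by
    rw [Subtype.range_coe_subtype, Set.ofPred_mem_eq, htspan, hs])).reindex e.symm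
  refine ⟨_, α, ?_⟩
  have heq : α.baseChange κ = (((Pi.basisFun B (Fin (Fintype.card t))).baseChange κ).equiv bV (Equiv.refl _)).toLinearMap := by
    refine ((Pi.basisFun B (Fin (Fintype.card t))).baseChange κ).ext fun i => ?_
    rw [LinearEquiv.coe_coe, Module.Basis.equiv_apply, Equiv.refl_apply, Module.Basis.baseChange_apply,
      LinearMap.baseChange_tmul, Pi.basisFun_apply]
    simp [α, bV, Fintype.linearCombination_apply_single, hm]
  rw [heq]
  exact LinearEquiv.bijective _

theorem injective_map_iff {r : ℕ} (T : Submonoid B) (α : (Fin r → B) →ₗ[B] N) :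
    Function.Injective (LocalizedModule.map T α) ↔ ∀ v, α v = 0 → ∃ t ∈ T, t • v = 0 := by
  constructor
  · intro h v hv
    have h1 : LocalizedModule.map T α (LocalizedModule.mk v 1) = 0 := by
      rw [LocalizedModule.map_mk, hv, LocalizedModule.zero_mk]
    obtain ⟨t, ht⟩ := (RGFlat.mk_eq_zero_iff v 1).mp (h (h1.trans (map_zero _).symm))
    exact ⟨t, t.2, ht⟩
  · intro h
    rw [injective_iff_map_eq_zero]
    intro x hx
    induction x using LocalizedModule.induction_on with
    | h v s =>
      rw [LocalizedModule.map_mk, RGFlat.mk_eq_zero_iff] at hx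
      obtain ⟨t, ht⟩ := hx
      obtain ⟨t', ht', h'⟩ := h ((t : B) • v) (by rw [map_smul, ht])
      exact (RGFlat.mk_eq_zero_iff v s).mpr ⟨⟨t', ht'⟩ * t, by rw [Submonoid.coe_mul, mul_smul]; exact h'⟩

omit [Module A N] [IsScalarTower A B N] in
theorem surjective_map_at (η : Ideal B) [η.IsPrime] [Module.Finite B N] {r : ℕ} (α : (Fin r → B) →ₗ[B] N)
    (hα : Function.Surjective (α.baseChange η.ResidueField)) :
    Function.Surjective (LocalizedModule.map η.primeCompl α) := by
  let T := η.primeCompl
  let Q := N ⧸ LinearMap.range α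
  let π := (LinearMap.range α).mkQ
  have hπ : Function.Surjective π := Submodule.mkQ_surjective _
  have hQ : Subsingleton (η.ResidueField ⊗[B] Q) := by
    refine subsingleton_of_forall_eq 0 fun x => ?_
    obtain ⟨y, rfl⟩ := LinearMap.lTensor_surjective η.ResidueField (g := π) hπ x
    obtain ⟨w, rfl⟩ := hα y
    show π.lTensor η.ResidueField (α.lTensor η.ResidueField w) = 0
    rw [← LinearMap.lTensor_comp_apply, (LinearMap.exact_map_mkQ_range α).linearMap_comp_eq_zero,
      LinearMap.lTensor_zero, LinearMap.zero_apply]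
  haveI : Subsingleton (LocalizedModule T Q) := by
    have h1 := (Module.mem_support_iff_nontrivial_residueField_tensorProduct (M := Q) ⟨η, inferInstance⟩).not.mpr
      (not_nontrivial_iff_subsingleton.mpr hQ)
    exact Module.notMem_support_iff.mp h1
  intro y
  obtain ⟨x, hx⟩ := (LocalizedModule.map_exact T α π (LinearMap.exact_map_mkQ_range α) y).mp (Subsingleton.elim _ _)
  exact ⟨x, hx⟩

theorem univInj_map (T : Submonoid B) {r : ℕ} (α : (Fin r → B) →ₗ[B] N)
    (h : ∀ (X : Type u) [AddCommGroup X] [Module A X] (x : (Fin r → B) ⊗[A] X),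
      (α.restrictScalars A).rTensor X x = 0 → ∃ t ∈ T, t • x = 0) :
    FlatCA.UnivInj A ((LocalizedModule.map T α).restrictScalars A) := by
  intro X _ _
  rw [LinearMap.lTensor_inj_iff_rTensor_inj, injective_iff_map_eq_zero]
  intro x hx
  let φ := AlgebraTensorModule.rTensor A X (LocalizedModule.mkLinearMap T (Fin r → B))
  haveI : IsLocalizedModule T φ := inferInstance
  let ψ := AlgebraTensorModule.rTensor A X (LocalizedModule.mkLinearMap T N)
  haveI : IsLocalizedModule T ψ := inferInstance
  let αT := AlgebraTensorModule.rTensor A X ((LocalizedModule.map T α).restrictScalars B)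
  obtain ⟨⟨y, s⟩, hs⟩ := IsLocalizedModule.surj T φ x
  have hcomm : ∀ w, ψ ((α.restrictScalars A).rTensor X w) = αT (φ w) := fun w => by
    induction w with
    | zero => simp
    | tmul a b =>
      exact congrArg (· ⊗ₜ[A] b) (LocalizedModule.map_mk T α a 1).symm
    | add a b ha hb => simp only [map_add, ha, hb]
  have h2 : ψ ((α.restrictScalars A).rTensor X y) = 0 := by
    rw [hcomm, ← hs, Submonoid.smul_def, map_smul, show αT x = 0 from hx, smul_zero]
  obtain ⟨t, ht⟩ := (IsLocalizedModule.eq_zero_iff T ψ).mp h2
  obtain ⟨t', ht', h'⟩ := h X ((t : B) • y) (by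
    show AlgebraTensorModule.rTensor A X α ((t : B) • y) = 0
    rw [map_smul]; exact ht)
  have h3 : φ y = 0 := (IsLocalizedModule.eq_zero_iff T φ).mpr
    ⟨⟨t', ht'⟩ * t, by rw [Submonoid.smul_def, Submonoid.coe_mul, mul_smul]; exact h'⟩
  rw [h3] at hs
  exact ((Module.End.isUnit_iff _).mp (IsLocalizedModule.map_units φ s)).1 (hs.trans (map_zero _).symm)

theorem injective_of_univInj {M M' : Type u} [AddCommGroup M] [Module A M] [AddCommGroup M'] [Module A M']
    (f : M →ₗ[A] M') (h : FlatCA.UnivInj A f) : Function.Injective f := fun a b hab => by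
  refine (TensorProduct.lid A M).symm.injective (h A ?_)
  show (1 : A) ⊗ₜ[A] f a = (1 : A) ⊗ₜ[A] f b
  rw [hab]

theorem kill_of_univInj (T : Submonoid B) {r : ℕ} (α : (Fin r → B) →ₗ[B] N)
    (h : FlatCA.UnivInj A ((LocalizedModule.map T α).restrictScalars A)) (X : Type u) [AddCommGroup X] [Module A X]
    (x : (Fin r → B) ⊗[A] X) (hx : (α.restrictScalars A).rTensor X x = 0) : ∃ t ∈ T, t • x = 0 := by
  let φ := AlgebraTensorModule.rTensor A X (LocalizedModule.mkLinearMap T (Fin r → B))
  haveI : IsLocalizedModule T φ := inferInstance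
  let ψ := AlgebraTensorModule.rTensor A X (LocalizedModule.mkLinearMap T N)
  let αT := AlgebraTensorModule.rTensor A X ((LocalizedModule.map T α).restrictScalars B)
  have hcomm : ∀ w, ψ ((α.restrictScalars A).rTensor X w) = αT (φ w) := fun w => by
    induction w with
    | zero => simp
    | tmul a b =>
      exact congrArg (· ⊗ₜ[A] b) (LocalizedModule.map_mk T α a 1).symm
    | add a b ha hb => simp only [map_add, ha, hb]
  have h1 : φ x = 0 := (LinearMap.lTensor_inj_iff_rTensor_inj (f := (LocalizedModule.map T α).restrictScalars A) X).mp (h X)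
    (show αT (φ x) = αT 0 by rw [← hcomm, hx, map_zero, map_zero])
  obtain ⟨t, ht⟩ := (IsLocalizedModule.eq_zero_iff T φ).mp h1
  exact ⟨t, t.2, ht⟩

/-- An extension at a point. -/
theorem flatAt_of_coker [Module.Flat A B] (q : Ideal B) [q.IsPrime] {r : ℕ} (α : (Fin r → B) →ₗ[B] N)
    (hinj : Function.Injective (LocalizedModule.map q.primeCompl α))
    (hC : FlatCA.FlatAt A q (N ⧸ LinearMap.range α)) : FlatCA.FlatAt A q N := by
  let T := q.primeCompl
  haveI : Module.Flat A (LocalizedModule T (N ⧸ LinearMap.range α)) := hC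
  haveI : Module.Flat B (LocalizedModule T (Fin r → B)) := by
    haveI : Module.Flat B (Localization T) := IsLocalization.flat _ T
    exact Module.Flat.of_linearEquiv ((LocalizedModule.equivTensorProduct T (Fin r → B)).restrictScalars B)
  haveI : Module.Flat A (LocalizedModule T (Fin r → B)) := Module.Flat.trans A B _
  haveI : IsScalarTower A (Localization T) (LocalizedModule T N) := IsScalarTower.of_algebraMap_smul fun a x => by
    rw [IsScalarTower.algebraMap_apply A B (Localization T), IsScalarTower.algebraMap_smul, IsScalarTower.algebraMap_smul]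
  exact IdealSh.RelFlat.flat_middle_of_exact ((LocalizedModule.map T α).restrictScalars A)
    ((LocalizedModule.map T (LinearMap.range α).mkQ).restrictScalars A)
    (LocalizedModule.map_exact T α _ (LinearMap.exact_map_mkQ_range α))
    (LocalizedModule.map_surjective T _ (Submodule.mkQ_surjective _)) hinj

/-- Universal injectivity at a point gives a flat cokernel at that point. -/
theorem flatAt_coker (q : Ideal B) [q.IsPrime] {r : ℕ} (α : (Fin r → B) →ₗ[B] N) (hN : FlatCA.FlatAt A q N)
    (h : FlatCA.UnivInj A ((LocalizedModule.map q.primeCompl α).restrictScalars A)) :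
    FlatCA.FlatAt A q (N ⧸ LinearMap.range α) := by
  let T := q.primeCompl
  haveI : Module.Flat A (LocalizedModule T N) := hN
  haveI : IsScalarTower A (Localization T) (LocalizedModule T N) := IsScalarTower.of_algebraMap_smul fun a x => by
    rw [IsScalarTower.algebraMap_apply A B (Localization T), IsScalarTower.algebraMap_smul, IsScalarTower.algebraMap_smul]
  exact DevStep.flat_coker ((LocalizedModule.map T α).restrictScalars A)
    ((LocalizedModule.map T (LinearMap.range α).mkQ).restrictScalars A)
    (LocalizedModule.map_exact T α _ (LinearMap.exact_map_mkQ_range α))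
    (LocalizedModule.map_surjective T _ (Submodule.mkQ_surjective _))
    fun X _ _ => (LinearMap.lTensor_inj_iff_rTensor_inj (f := (LocalizedModule.map T α).restrictScalars A) X).mp (h X)

end Groth.Agent.HP.Glob
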